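import Groth.Prelude.Def_ega3
import Groth.Agent.KCLib.RingIso
import Mathlib.RingTheory.Derivation.Basic
import Mathlib.Algebra.Homology.ShortComplex.ModuleCat
import Mathlib.Algebra.Homology.ShortComplex.ConcreteCategory
import Mathlib.Algebra.Homology.ConcreteCategory
import Mathlib.Algebra.Colimit.Module

/-! A derivation of the ring acts on the colimit of the Koszul cohomology of powers. -/

set_option autoImplicit false
set_option backward.isDefEq.respectTransparency false
universe u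

open CategoryTheory CategoryTheory.Limits CochainComplex HomologicalComplex

namespace Groth.Agent.H6KosDer

variable {A : Type u} [CommRing A] (θ : Derivation ℤ A A)

section Step

variable (K : ℕ → CochainComplex (ModuleCat.{u} A) ℤ)

/-- A twisted action of `θ` on a family of complexes with transition maps. -/
structure Data (T : ∀ n m : ℕ, n ≤ m → (K n ⟶ K m)) where
  D : ∀ (n : ℕ) (p : ℤ), (K n).X p →+ (K (2 * n)).X p
  leibniz : ∀ (n : ℕ) (p : ℤ) (a : A) (x : (K n).X p),
    D n p (a • x) = θ a • ((T n (2 * n) (by omega)).f p x : (K (2 * n)).X p) + a • D n p x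
  comm_d : ∀ (n : ℕ) (p q : ℤ) (x : (K n).X p),
    (K (2 * n)).d p q (D n p x) = D n q ((K n).d p q x)
  comm_T : ∀ (n m : ℕ) (h : n ≤ m) (p : ℤ) (x : (K n).X p),
    D m p ((T n m h).f p x) = (T (2 * n) (2 * m) (by omega)).f p (D n p x)

end Step

/-- A semilinear family of maps commuting with the differentials passes to homology. -/
theorem exists_homology_map {K L : CochainComplex (ModuleCat.{u} A) ℤ} (T : K ⟶ L)
    (D : ∀ p : ℤ, K.X p →+ L.X p)
    (hl : ∀ (p : ℤ) (a : A) (x : K.X p), D p (a • x) = θ a • (T.f p x : L.X p) + a • D p x)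
    (hd : ∀ (p q : ℤ) (x : K.X p), L.d p q (D p x) = D q (K.d p q x)) (p : ℤ) :
    ∃ E : K.homology p →+ L.homology p,
      (∀ (a : A) (z : K.homology p),
        E (a • z) = θ a • (homologyMap T p z : L.homology p) + a • E z) ∧
      ∀ (z : K.cycles p) (w : L.cycles p), L.iCycles p w = D p (K.iCycles p z) →
        E (K.homologyπ p z) = L.homologyπ p w := by
  have hinjL : Function.Injective (L.iCycles p) :=
    (ModuleCat.mono_iff_injective _).mp inferInstance
  have hinjK : Function.Injective (K.iCycles p) :=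
    (ModuleCat.mono_iff_injective _).mp inferInstance
  have hsurj : Function.Surjective (K.homologyπ p) :=
    (ModuleCat.epi_iff_surjective _).mp inferInstance
  -- the map on cycles
  have hex : ∀ z : K.cycles p, ∃ w : L.cycles p, L.iCycles p w = D p (K.iCycles p z) := by
    intro z
    have h0 : L.d p (p + 1) (D p (K.iCycles p z)) = 0 := by
      rw [hd, show K.d p (p + 1) (K.iCycles p z) = 0 from by
        change (K.iCycles p ≫ K.d p (p + 1)) z = 0
        rw [K.iCycles_d]; rfl, map_zero]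
    exact ⟨L.cyclesMk _ (p + 1) (by simp) h0, L.i_cyclesMk _ _ _ h0⟩
  choose Z hZ using hex
  let Zh : K.cycles p →+ L.homology p := AddMonoidHom.mk' (fun z => L.homologyπ p (Z z)) (by
    intro z z'
    rw [← map_add]
    congr 1
    apply hinjL
    rw [map_add, hZ, hZ, hZ, map_add, map_add])
  have hker : ∀ z : K.cycles p, K.homologyπ p z = 0 → Zh z = 0 := by
    intro z hz
    have hS : (ShortComplex.mk (K.toCycles (p - 1) p) (K.homologyπ p) (K.toCycles_comp_homologyπ _ _)).Exact :=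
      ShortComplex.exact_of_g_is_cokernel _ (K.homologyIsCokernel (p - 1) p (by simp))
    obtain ⟨y, hy⟩ := (ShortComplex.moduleCat_exact_iff _).mp hS z hz
    change L.homologyπ p (Z z) = 0
    have : Z z = L.toCycles (p - 1) p (D (p - 1) y) := by
      apply hinjL
      rw [hZ, ← hy]
      have h1 : ∀ w, L.iCycles p (L.toCycles (p - 1) p w) = L.d (p - 1) p w := fun w => by
        change (L.toCycles (p - 1) p ≫ L.iCycles p) w = _
        rw [L.toCycles_i]
      have h2 : ∀ w, K.iCycles p (K.toCycles (p - 1) p w) = K.d (p - 1) p w := fun w => by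
        change (K.toCycles (p - 1) p ≫ K.iCycles p) w = _
        rw [K.toCycles_i]
      rw [h1]
      exact (congrArg (D p) (h2 y)).trans (hd _ _ y).symm
    rw [this]
    change (L.toCycles (p - 1) p ≫ L.homologyπ p) _ = 0
    rw [L.toCycles_comp_homologyπ]; rfl
  choose s hs using hsurj
  have hwd : ∀ z z' : K.cycles p, K.homologyπ p z = K.homologyπ p z' → Zh z = Zh z' := by
    intro z z' h
    rw [← sub_eq_zero, ← map_sub]
    exact hker _ (by rw [map_sub, h, sub_self])
  let E : K.homology p →+ L.homology p := AddMonoidHom.mk' (fun h => Zh (s h)) (by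
    intro a b
    rw [← map_add]
    exact hwd _ _ (by rw [hs, map_add, hs, hs]))
  have hE : ∀ z : K.cycles p, E (K.homologyπ p z) = L.homologyπ p (Z z) := fun z =>
    hwd _ _ (hs _)
  refine ⟨E, fun a h => ?_, fun z w hw => ?_⟩
  · obtain ⟨z, rfl⟩ : ∃ z, K.homologyπ p z = h := ⟨s h, hs h⟩
    have hT : (homologyMap T p (K.homologyπ p z) : L.homology p) =
        L.homologyπ p (cyclesMap T p z) := by
      change (K.homologyπ p ≫ homologyMap T p) z = (cyclesMap T p ≫ L.homologyπ p) z
      rw [homologyπ_naturality]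
    rw [← map_smul, hE, hE, hT, ← map_smul (L.homologyπ p).hom, ← map_smul (L.homologyπ p).hom,
      ← map_add (L.homologyπ p).hom]
    congr 1
    apply hinjL
    have hc : L.iCycles p (cyclesMap T p z) = T.f p (K.iCycles p z) := by
      change (cyclesMap T p ≫ L.iCycles p) z = _
      rw [cyclesMap_i]; rfl
    rw [map_add, map_smul, map_smul, hZ, hZ, map_smul, hl, hc]
  · rw [hE]
    congr 1
    exact hinjL ((hZ z).trans hw.symm)

open CochainComplex.mappingCone HomComplex

section Cone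

variable {F₁ F₂ G₁ G₂ : CochainComplex (ModuleCat.{u} A) ℤ} {φ : F₁ ⟶ G₁} {ψ : F₂ ⟶ G₂}
  (a : F₁ ⟶ F₂) (b : G₁ ⟶ G₂) (w : φ ≫ b = a ≫ ψ)

lemma map_fst (p q : ℤ) (hpq : p + 1 = q) :
    (mappingCone.map φ ψ a b w).f p ≫ (fst ψ).1.v p q hpq = (fst φ).1.v p q hpq ≫ a.f q := by
  rw [ext_from_iff φ q p hpq]
  constructor <;> simp [mappingCone.map]

lemma map_snd (p : ℤ) :
    (mappingCone.map φ ψ a b w).f p ≫ (snd ψ).v p p (add_zero p) = (snd φ).v p p (add_zero p) ≫ b.f p := by
  rw [ext_from_iff φ (p + 1) p rfl]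
  constructor <;> simp [mappingCone.map]

end Cone

section Cons

variable {K : ℕ → CochainComplex (ModuleCat.{u} A) ℤ} {T : ∀ n m : ℕ, n ≤ m → (K n ⟶ K m)}
  (f : A)

noncomputable abbrev cone (K : ℕ → CochainComplex (ModuleCat.{u} A) ℤ) (f : A) (n : ℕ) :
    CochainComplex (ModuleCat.{u} A) ℤ :=
  CochainComplex.mappingCone (f ^ n • 𝟙 (K n))

lemma cone_ext {n : ℕ} {p : ℤ} {x y : (cone K f n).X p}
    (h1 : (fst (f ^ n • 𝟙 (K n))).1.v p (p + 1) rfl x = (fst (f ^ n • 𝟙 (K n))).1.v p (p + 1) rfl y)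
    (h2 : (snd (f ^ n • 𝟙 (K n))).v p p (add_zero p) x = (snd (f ^ n • 𝟙 (K n))).v p p (add_zero p) y) :
    x = y := by
  have key := id_X (f ^ n • 𝟙 (K n)) p (p + 1) rfl
  have hx : ∀ z : (cone K f n).X p, z =
      (inl (f ^ n • 𝟙 (K n))).v (p + 1) p (by omega) ((fst (f ^ n • 𝟙 (K n))).1.v p (p + 1) rfl z)
      + (inr (f ^ n • 𝟙 (K n))).f p ((snd (f ^ n • 𝟙 (K n))).v p p (add_zero p) z) := fun z => by
    conv_lhs => rw [show z = (𝟙 ((cone K f n).X p) : _ ⟶ _) z from rfl, ← key]
    rfl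
  rw [hx x, hx y, h1, h2]

variable (S : Data θ K T)

noncomputable def consD (n : ℕ) (p : ℤ) : (cone K f n).X p →+ (cone K f (2 * n)).X p :=
  (((inl (f ^ (2 * n) • 𝟙 (K (2 * n)))).v (p + 1) p (by omega)).hom.toAddMonoidHom).comp
      ((S.D n (p + 1)).comp ((fst (f ^ n • 𝟙 (K n))).1.v p (p + 1) rfl).hom.toAddMonoidHom) +
    (((inr (f ^ (2 * n) • 𝟙 (K (2 * n)))).f p).hom.toAddMonoidHom).comp
      ((DistribSMul.toAddMonoidHom _ (f ^ n)).comp
          ((S.D n p).comp ((snd (f ^ n • 𝟙 (K n))).v p p (add_zero p)).hom.toAddMonoidHom) -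
        (DistribSMul.toAddMonoidHom _ (θ (f ^ n))).comp
          (((T n (2 * n) (by omega)).f p).hom.toAddMonoidHom.comp
            ((snd (f ^ n • 𝟙 (K n))).v p p (add_zero p)).hom.toAddMonoidHom))

lemma consD_fst (n : ℕ) (p : ℤ) (x : (cone K f n).X p) :
    (fst (f ^ (2 * n) • 𝟙 (K (2 * n)))).1.v p (p + 1) rfl (consD θ f S n p x) =
      S.D n (p + 1) ((fst (f ^ n • 𝟙 (K n))).1.v p (p + 1) rfl x) := by
  have e1 := fun v => congr($(inl_v_fst_v (f ^ (2 * n) • 𝟙 (K (2 * n))) (p + 1) p (by omega)).hom v)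
  have e2 := fun v => congr($(inr_f_fst_v (f ^ (2 * n) • 𝟙 (K (2 * n))) p (p + 1) rfl).hom v)
  simp only [ModuleCat.hom_comp, LinearMap.comp_apply] at e1 e2
  simp [consD, e1, e2]

lemma consD_snd (n : ℕ) (p : ℤ) (x : (cone K f n).X p) :
    (snd (f ^ (2 * n) • 𝟙 (K (2 * n)))).v p p (add_zero p) (consD θ f S n p x) =
      f ^ n • S.D n p ((snd (f ^ n • 𝟙 (K n))).v p p (add_zero p) x) -
        θ (f ^ n) • ((T n (2 * n) (by omega)).f p
          ((snd (f ^ n • 𝟙 (K n))).v p p (add_zero p) x) : (K (2 * n)).X p) := by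
  have e1 := fun v => congr($(inl_v_snd_v (f ^ (2 * n) • 𝟙 (K (2 * n))) (p + 1) p (by omega)).hom v)
  have e2 := fun v => congr($(inr_f_snd_v (f ^ (2 * n) • 𝟙 (K (2 * n))) p).hom v)
  simp only [ModuleCat.hom_comp, LinearMap.comp_apply] at e1 e2
  simp [consD, e1, e2]

end Cons

end Groth.Agent.H6KosDer
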