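import Groth.Agent.H6KosDer.Basic

/-! The twisted action on Koszul complexes of powers and on the colimit of their cohomology. -/

set_option autoImplicit false
set_option backward.isDefEq.respectTransparency false
universe u

open CategoryTheory CategoryTheory.Limits CochainComplex HomologicalComplex

namespace Groth.Agent.H6KosDer

open CochainComplex.mappingCone HomComplex CohIII

variable {A : Type u} [CommRing A] (θ : Derivation ℤ A A) (M : ModuleCat.{u} A)

/-- The family of Koszul complexes of the powers of `fs`. -/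
noncomputable abbrev kK (fs : List A) (n : ℕ) : CochainComplex (ModuleCat.{u} A) ℤ :=
  koszulCx M (fs.map (· ^ n))

/-- Its transition maps. -/
noncomputable abbrev kT (fs : List A) (n m : ℕ) (h : n ≤ m) : kK M fs n ⟶ kK M fs m :=
  koszulTrans M n m h fs

theorem kT_apply {fs : List A} {n m l : ℕ} (h : n ≤ m) (h' : m ≤ l) (p : ℤ) (x : (kK M fs n).X p) :
    (kT M fs m l h').f p ((kT M fs n m h).f p x) = (kT M fs n l (h.trans h')).f p x := by
  have := congr($(Groth.Agent.KCLib.koszulTrans_comp M n m l h h' fs).f p)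
  exact congr(ConcreteCategory.hom $this x)

section Cons

variable {K : ℕ → CochainComplex (ModuleCat.{u} A) ℤ} (T : ∀ n m : ℕ, n ≤ m → (K n ⟶ K m)) (f : A)

/-- The transition maps of the cones. -/
noncomputable def coneT (n m : ℕ) (h : n ≤ m) : cone K f n ⟶ cone K f m :=
  mappingCone.map (f ^ n • 𝟙 (K n)) (f ^ m • 𝟙 (K m)) (T n m h) (f ^ (m - n) • T n m h) (by
    simp only [Linear.smul_comp, Linear.comp_smul, Category.id_comp, Category.comp_id, smul_smul,
      ← pow_add, Nat.sub_add_cancel h])

lemma coneT_fst (n m : ℕ) (h : n ≤ m) (p : ℤ) (x : (cone K f n).X p) :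
    (fst (f ^ m • 𝟙 (K m))).1.v p (p + 1) rfl ((coneT T f n m h).f p x) =
      (T n m h).f (p + 1) ((fst (f ^ n • 𝟙 (K n))).1.v p (p + 1) rfl x) := by
  have := map_fst (φ := f ^ n • 𝟙 (K n)) (ψ := f ^ m • 𝟙 (K m)) (T n m h) (f ^ (m - n) • T n m h) (by
      simp only [Linear.smul_comp, Linear.comp_smul, Category.id_comp, Category.comp_id, smul_smul,
        ← pow_add, Nat.sub_add_cancel h]) p (p + 1) rfl
  exact congr(ConcreteCategory.hom $this x)

lemma coneT_snd (n m : ℕ) (h : n ≤ m) (p : ℤ) (x : (cone K f n).X p) :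
    (snd (f ^ m • 𝟙 (K m))).v p p (add_zero p) ((coneT T f n m h).f p x) =
      f ^ (m - n) • ((T n m h).f p ((snd (f ^ n • 𝟙 (K n))).v p p (add_zero p) x) : (K m).X p) := by
  have := map_snd (φ := f ^ n • 𝟙 (K n)) (ψ := f ^ m • 𝟙 (K m)) (T n m h) (f ^ (m - n) • T n m h) (by
      simp only [Linear.smul_comp, Linear.comp_smul, Category.id_comp, Category.comp_id, smul_smul,
        ← pow_add, Nat.sub_add_cancel h]) p
  exact congr(ConcreteCategory.hom $this x)

lemma cone_d_fst {n : ℕ} (p : ℤ) (x : (cone K f n).X p) :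
    (fst (f ^ n • 𝟙 (K n))).1.v (p + 1) (p + 1 + 1) rfl ((cone K f n).d p (p + 1) x) =
      - (K n).d (p + 1) (p + 1 + 1) ((fst (f ^ n • 𝟙 (K n))).1.v p (p + 1) rfl x) := by
  have := d_fst_v (f ^ n • 𝟙 (K n)) p (p + 1) (p + 1 + 1) rfl rfl
  exact congr(ConcreteCategory.hom $this x)

lemma cone_d_snd {n : ℕ} (p : ℤ) (x : (cone K f n).X p) :
    (snd (f ^ n • 𝟙 (K n))).v (p + 1) (p + 1) (add_zero _) ((cone K f n).d p (p + 1) x) =
      f ^ n • ((fst (f ^ n • 𝟙 (K n))).1.v p (p + 1) rfl x : (K n).X (p + 1)) +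
      (K n).d p (p + 1) ((snd (f ^ n • 𝟙 (K n))).v p p (add_zero p) x) := by
  have := d_snd_v (f ^ n • 𝟙 (K n)) p (p + 1) rfl
  exact congr(ConcreteCategory.hom $this x)

variable {T}

/-- Adjoining an element. -/
noncomputable def consData
    (hT : ∀ (n m l : ℕ) (h : n ≤ m) (h' : m ≤ l), T n m h ≫ T m l h' = T n l (h.trans h'))
    (S : Data θ K T) : Data θ (cone K f) (coneT T f) where
  D := fun n p => consD θ f S n p
  leibniz := by
    intro n p a x
    apply cone_ext (K := K) (f := f) (n := 2 * n)
    · simp only [map_add, map_smul, consD_fst, coneT_fst, S.leibniz]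
    · simp only [map_add, map_smul, consD_snd, coneT_snd, S.leibniz, show 2 * n - n = n by omega,
        smul_add, smul_sub, smul_smul]
      module
  comm_d := by
    intro n p q x
    by_cases hpq : p + 1 = q
    · subst hpq
      apply cone_ext (K := K) (f := f) (n := 2 * n)
      · simp only [cone_d_fst, consD_fst, map_neg, S.comm_d]
      · have hT : ∀ z, (K (2 * n)).d p (p + 1) ((T n (2 * n) (by omega)).f p z) =
            (T n (2 * n) (by omega)).f (p + 1) ((K n).d p (p + 1) z) := fun z =>
          congr(ConcreteCategory.hom $((T n (2 * n) (by omega)).comm p (p + 1)) z)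
        simp only [cone_d_snd, consD_fst, consD_snd, map_add, map_sub, map_smul, S.leibniz, S.comm_d,
          hT, smul_add, smul_sub, smul_smul,
          show f ^ (2 * n) = f ^ n * f ^ n by rw [← pow_add]; ring_nf]
        module
    · rw [(cone K f (2 * n)).shape p q hpq, (cone K f n).shape p q hpq]
      simp
  comm_T := by
    intro n m h p x
    have hc : ∀ (n m l : ℕ) (h : n ≤ m) (h' : m ≤ l) (p : ℤ) (z : (K n).X p),
        (T m l h').f p ((T n m h).f p z) = (T n l (h.trans h')).f p z := fun n m l h h' p z =>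
      congr(ConcreteCategory.hom (HomologicalComplex.Hom.f $(hT n m l h h') p) z)
    apply cone_ext (K := K) (f := f) (n := 2 * m)
    · simp only [consD_fst, coneT_fst, S.comm_T n m h]
    · obtain ⟨k, rfl⟩ : ∃ k, m = n + k := ⟨m - n, by omega⟩
      have hθ : θ (f ^ (n + k)) = f ^ n * θ (f ^ k) + f ^ k * θ (f ^ n) := by
        rw [pow_add, θ.leibniz]; rfl
      simp only [consD_snd, coneT_snd, map_sub, map_smul, S.leibniz, S.comm_T n (n + k) h, hc,
        show n + k - n = k by omega, show 2 * (n + k) - 2 * n = k + k by omega, smul_add, smul_sub,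
        smul_smul, hθ]
      simp only [pow_add, add_smul]
      module

end Cons

/-- The action on the complex of the empty list: a semilinear operator on `M`. -/
noncomputable def nilData (D₀ : M →+ M) (h₀ : ∀ (a : A) (x : M), D₀ (a • x) = θ a • x + a • D₀ x) :
    Data θ (kK M []) (kT M []) where
  D := fun n p => if hp : p = 0 then
      (((HomologicalComplex.singleObjXSelf (ComplexShape.up ℤ) 0 M).inv ≫
        eqToHom (by subst hp; rfl)).hom.toAddMonoidHom).comp
      (D₀.comp ((eqToHom (by subst hp; rfl) ≫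
        (HomologicalComplex.singleObjXSelf (ComplexShape.up ℤ) 0 M).hom)).hom.toAddMonoidHom)
    else 0
  leibniz := by
    intro n p a x
    split_ifs with hp
    · subst hp
      simp only [eqToHom_refl, Category.id_comp, Category.comp_id]
      simp only [AddMonoidHom.comp_apply, LinearMap.toAddMonoidHom_coe, map_smul, h₀, map_add]
      congr 1
    · have hz : IsZero ((kK M [] n).X p) :=
        HomologicalComplex.isZero_single_obj_X (ComplexShape.up ℤ) 0 M p hp
      haveI := ModuleCat.subsingleton_of_isZero hz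
      rw [Subsingleton.elim x 0]
      simp
  comm_d := by
    intro n p q x
    show ((HomologicalComplex.single _ _ 0).obj M).d p q _ = _
    rw [HomologicalComplex.single_obj_d]
    show _ = _
    rw [show (kK M [] n).d p q = 0 from HomologicalComplex.single_obj_d _ _ _ _ _]
    simp
  comm_T := by
    intro n m h p x
    rfl

/-- The action on every Koszul complex. -/
noncomputable def kData (D₀ : M →+ M) (h₀ : ∀ (a : A) (x : M), D₀ (a • x) = θ a • x + a • D₀ x) :
    ∀ fs : List A, Data θ (kK M fs) (kT M fs)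
  | [] => nilData θ M D₀ h₀
  | f :: fs => consData θ f (fun n m l h h' => Groth.Agent.KCLib.koszulTrans_comp M n m l h h' fs)
      (kData D₀ h₀ fs)

/-- Pairs with the dual-number twisted action. -/
@[nolint unusedArguments]
def Pair (_θ : Derivation ℤ A A) (N : Type u) := N × N

instance (N : Type u) [AddCommGroup N] : AddCommGroup (Pair θ N) :=
  inferInstanceAs (AddCommGroup (N × N))

instance (N : Type u) [AddCommGroup N] [Module A N] : Module A (Pair θ N) where
  smul a x := ((a • x.1, θ a • x.1 + a • x.2) : N × N)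
  one_smul x := Prod.ext (one_smul A x.1) (show θ 1 • x.1 + (1 : A) • x.2 = x.2 by simp)
  mul_smul a b x := Prod.ext (mul_smul a b x.1) (show θ (a * b) • x.1 + (a * b) • x.2 =
      θ a • (b • x.1) + a • (θ b • x.1 + b • x.2) by
    rw [θ.leibniz]; simp only [smul_eq_mul]; module)
  smul_zero a := Prod.ext (smul_zero a) (show θ a • (0 : N) + a • (0 : N) = 0 by simp)
  smul_add a x y := Prod.ext (smul_add a x.1 y.1)
    (show θ a • (x.1 + y.1) + a • (x.2 + y.2) = (θ a • x.1 + a • x.2) + (θ a • y.1 + a • y.2) by module)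
  add_smul a b x := Prod.ext (add_smul a b x.1)
    (show θ (a + b) • x.1 + (a + b) • x.2 = (θ a • x.1 + a • x.2) + (θ b • x.1 + b • x.2) by
      rw [map_add]; module)
  zero_smul x := Prod.ext (zero_smul A x.1) (show θ 0 • x.1 + (0 : A) • x.2 = 0 by simp)

/-- **A derivation acts on `colim H^p(f^n, M)`.** -/
theorem exists_op_koszulHLim (D₀ : M →+ M) (h₀ : ∀ (a : A) (x : M), D₀ (a • x) = θ a • x + a • D₀ x)
    (fs : List A) (p : ℕ) :
    ∃ D : koszulHLim fs M p →+ koszulHLim fs M p,
      ∀ (a : A) (ξ : koszulHLim fs M p), D (a • ξ) = θ a • ξ + a • D ξ := by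
  let S := kData θ M D₀ h₀ fs
  let q : ℤ := (p : ℤ) - fs.length
  choose E hEl hEπ using fun n : ℕ => exists_homology_map θ (kT M fs n (2 * n) (by omega))
    (S.D n) (S.leibniz n) (S.comm_d n) q
  let t := fun (n m : ℕ) (h : n ≤ m) =>
    (HomologicalComplex.homologyMap (koszulTrans M n m h fs) q).hom
  let L := Module.DirectLimit (fun n : ℕ => (koszulHPow fs M p n : Type u)) t
  have hof : ∀ (n m : ℕ) (h : n ≤ m) (z : koszulHPow fs M p n),
      Module.DirectLimit.of A ℕ _ t m (t n m h z) = Module.DirectLimit.of A ℕ _ t n z :=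
    fun n m h z => Module.DirectLimit.of_f
  have hE : ∀ (n m : ℕ) (h : n ≤ m) (z : koszulHPow fs M p n),
      E m (t n m h z) = t (2 * n) (2 * m) (by omega) (E n z) := by
    intro n m h z
    obtain ⟨c, rfl⟩ := (ModuleCat.epi_iff_surjective ((kK M fs n).homologyπ q)).mp inferInstance z
    have hex : ∀ k (c : (kK M fs k).cycles q), ∃ w : (kK M fs (2 * k)).cycles q,
        (kK M fs (2 * k)).iCycles q w = S.D k q ((kK M fs k).iCycles q c) := by
      intro k c
      have h0 : (kK M fs (2 * k)).d q (q + 1) (S.D k q ((kK M fs k).iCycles q c)) = 0 := by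
        rw [S.comm_d, show (kK M fs k).d q (q + 1) ((kK M fs k).iCycles q c) = 0 from
        congr(ConcreteCategory.hom $((kK M fs k).iCycles_d q (q + 1)) c), map_zero]
      exact ⟨(kK M fs (2 * k)).cyclesMk _ (q + 1) (by simp) h0, (kK M fs (2 * k)).i_cyclesMk _ _ _ h0⟩
    obtain ⟨w, hw⟩ := hex n c
    have hn : ∀ (k l : ℕ) (hkl : k ≤ l) (c : (kK M fs k).cycles q),
        t k l hkl ((kK M fs k).homologyπ q c) =
          (kK M fs l).homologyπ q (cyclesMap (kT M fs k l hkl) q c) := fun k l hkl c =>
      congr(ConcreteCategory.hom $(homologyπ_naturality (kT M fs k l hkl) q) c)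
    have hc : ∀ (k l : ℕ) (hkl : k ≤ l) (c : (kK M fs k).cycles q),
        (kK M fs l).iCycles q (cyclesMap (kT M fs k l hkl) q c) =
          (kT M fs k l hkl).f q ((kK M fs k).iCycles q c) := fun k l hkl c =>
      congr(ConcreteCategory.hom $(cyclesMap_i (kT M fs k l hkl) q) c)
    rw [hEπ n c w hw, hn, hn]
    refine hEπ m _ _ ?_
    rw [hc, hw, hc, S.comm_T n m h]
  let G : ∀ n, koszulHPow fs M p n →ₗ[A] Pair θ L := fun n =>
    { toFun := fun z => ((Module.DirectLimit.of A ℕ _ t n z,
        Module.DirectLimit.of A ℕ _ t (2 * n) (E n z)) : L × L)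
      map_add' := fun z z' => Prod.ext (map_add _ z z') (by simp only [map_add]; rfl)
      map_smul' := fun a z => Prod.ext (map_smul _ a z) (by
        show Module.DirectLimit.of A ℕ _ t (2 * n) (E n (a • z)) =
          θ a • Module.DirectLimit.of A ℕ _ t n z + a • Module.DirectLimit.of A ℕ _ t (2 * n) (E n z)
        rw [hEl, map_add, map_smul, map_smul]
        congr 2
        exact hof n (2 * n) (by omega) z) }
  let F : L →ₗ[A] Pair θ L := Module.DirectLimit.lift A ℕ _ t G (fun n m h z =>
    Prod.ext (hof n m h z) (by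
      show Module.DirectLimit.of A ℕ _ t (2 * m) (E m (t n m h z)) = _
      rw [hE n m h z]
      exact hof (2 * n) (2 * m) _ _))
  have h1 : ∀ ξ : L, (F ξ : L × L).1 = ξ := by
    intro ξ
    induction ξ using Module.DirectLimit.induction_on with
    | ih n z => exact congrArg Prod.fst (Module.DirectLimit.lift_of (R := A) (ι := ℕ) (f := t) (P := Pair θ L) G _ z)
  let D : L →+ L := AddMonoidHom.mk' (fun ξ : L => (F ξ : L × L).2) (fun x y => by rw [map_add]; rfl)
  suffices H : ∀ (a : A) (ξ : L), D (a • ξ) = θ a • ξ + a • D ξ from ⟨D, H⟩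
  intro a ξ
  show (F (a • ξ) : L × L).2 = θ a • ξ + a • (F ξ : L × L).2
  rw [map_smul]
  show θ a • (F (ξ : L) : L × L).1 + a • (F (ξ : L) : L × L).2 = _
  rw [h1]

end Groth.Agent.H6KosDer
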